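import Mathlib.AlgebraicGeometry.Morphisms.QuasiCompact
import Mathlib.AlgebraicGeometry.Morphisms.UnderlyingMap
import Mathlib.RingTheory.Ideal.MinimalPrime.Localization
import Mathlib.Topology.Sober

/-!
# Maximal points in the closure of the image of a quasi-compact morphism
-/

set_option autoImplicit false

universe u

open AlgebraicGeometry CategoryTheory TopologicalSpace

namespace Groth.Agent.Dom8

theorem mem_range_comap_of_mem_closure {A R : Type*} [CommRing A] [CommRing R] (φ : A →+* R) (q : PrimeSpectrum A)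
    (hq : q ∈ closure (Set.range (PrimeSpectrum.comap φ))) (hmax : ∀ p : PrimeSpectrum A, p ⤳ q → p = q) :
    q ∈ Set.range (PrimeSpectrum.comap φ) := by
  rw [PrimeSpectrum.closure_range_comap, PrimeSpectrum.mem_zeroLocus, SetLike.coe_subset_coe] at hq
  have hmin : q.asIdeal ∈ ((⊥ : Ideal R).comap φ).minimalPrimes := by
    refine ⟨⟨q.2, hq⟩, fun p hp hle => ?_⟩
    have h := hmax ⟨p, hp.1⟩ ((PrimeSpectrum.le_iff_specializes _ _).1 hle)
    exact (congrArg PrimeSpectrum.asIdeal h).ge
  obtain ⟨p', hp', -, e⟩ := Ideal.exists_comap_eq_of_mem_minimalPrimes φ q.asIdeal hmin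
  exact ⟨⟨p', hp'⟩, PrimeSpectrum.ext e⟩

theorem eq_of_specializes_of_mem_irreducibleComponents {S : Type u} [TopologicalSpace S] [T0Space S] {η y : S}
    (hη : closure {η} ∈ irreducibleComponents S) (h : y ⤳ η) : y = η := by
  refine (h.antisymm (specializes_iff_mem_closure.2 ?_)).eq
  exact hη.2 isIrreducible_singleton.closure h.closure_subset (subset_closure rfl)

/-- A maximal point in the closure of the range of a quasi-compact morphism is in the range. -/
theorem mem_range_of_mem_closure {X S : Scheme.{u}} (f : X ⟶ S) [QuasiCompact f] {η : S}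
    (hη : η ∈ closure (Set.range f)) (hmax : ∀ y : S, y ⤳ η → y = η) : η ∈ Set.range f := by
  obtain ⟨V, hV, hηV, -⟩ := exists_isAffineOpen_mem_and_subset (X := S) (x := η) (U := ⊤) trivial
  obtain ⟨R, g, hg⟩ := isCompact_iff_exists.1 (f.isCompact_preimage hV.isCompact)
  have hg' : Set.range g = f ⁻¹' (V : Set S) := hg
  have hgf : Set.range (g ≫ f) = Set.range f ∩ (V : Set S) := by
    have h : Set.range (g ≫ f) = f '' Set.range g := Set.range_comp f g
    rw [h, hg', Set.image_preimage_eq_inter_range, Set.inter_comm]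
  let h := IsOpenImmersion.lift hV.fromSpec (g ≫ f) (by rw [hV.range_fromSpec, hgf]; exact Set.inter_subset_right)
  have hfac : h ≫ hV.fromSpec = g ≫ f := IsOpenImmersion.lift_fac _ _ _
  obtain ⟨φ, hφ⟩ := Spec.homEquiv.symm.surjective h
  obtain ⟨q, hq⟩ : η ∈ Set.range hV.fromSpec := by rw [hV.range_fromSpec]; exact hηV
  have hr : Set.range (g ≫ f) = hV.fromSpec '' Set.range h := by
    rw [← hfac]
    exact Set.range_comp hV.fromSpec h
  have hqc : q ∈ closure (Set.range h) := by
    have hc : η ∈ closure (Set.range f ∩ (V : Set S)) := by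
      rw [Set.inter_comm]
      exact V.isOpen.inter_closure ⟨hηV, hη⟩
    rwa [← hgf, hr, ← hq, ← Set.mem_preimage, ← hV.fromSpec.isOpenEmbedding.isEmbedding.closure_eq_preimage_closure_image] at hc
  have hqh : q ∈ Set.range h := by
    have hh : (h : _ → _) = PrimeSpectrum.comap φ.hom := by rw [← hφ]; rfl
    rw [hh] at hqc ⊢
    refine mem_range_comap_of_mem_closure φ.hom q hqc fun p hp => hV.fromSpec.isOpenEmbedding.injective ?_
    rw [hq]
    exact hmax _ (hq ▸ hp.map hV.fromSpec.continuous)
  have : η ∈ Set.range (g ≫ f) := by rw [hr, ← hq]; exact ⟨q, hqh, rfl⟩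
  rw [hgf] at this
  exact this.1

end Groth.Agent.Dom8
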